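import Groth.Agent.Lib.FormBertini12.Section

/-!
# Functions with a singular zero on a smooth affine variety: a parametrisation by jets
-/

set_option autoImplicit false
set_option linter.all false
set_option maxHeartbeats 1000000
universe u

open TensorProduct

namespace GrothLib.DualVar12

variable {k B : Type u} [Field k] [CommRing B] [Algebra k B]

/-- The first jet of a function. -/
noncomputable def J : B →ₗ[k] B × Ω[B⁄k] :=
  LinearMap.id.prod (KaehlerDifferential.D k B).toLinearMap

theorem J_apply (b : B) : J (k := k) b = (b, KaehlerDifferential.D k B b) := rfl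

/-- All linear functions of the first jet of `h` vanish at the point `φ`. -/
def Tang (φ : B →ₐ[k] k) (h : B) : Prop :=
  ∀ ℓ : (B × Ω[B⁄k]) →ₗ[B] B, φ (ℓ (J (k := k) h)) = 0

/-- The kernel of a point. -/
noncomputable abbrev pk (φ : B →ₐ[k] k) : Ideal B := RingHom.ker φ.toRingHom

theorem pk_isMaximal (φ : B →ₐ[k] k) : (pk φ).IsMaximal :=
  RingHom.ker_isMaximal_of_surjective _ fun c => ⟨algebraMap k B c, φ.commutes c⟩

theorem J_mem_smul {p : Ideal B} {x : B} (hx : x ∈ p ^ 2) :
    J (k := k) x ∈ p • (⊤ : Submodule B (B × Ω[B⁄k])) := by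
  rw [pow_two] at hx
  refine Submodule.mul_induction_on hx (fun a ha b hb => ?_) fun a b ha hb => by rw [map_add]; exact add_mem ha hb
  have : J (k := k) (a * b) = a • J (k := k) b + b • ((0, KaehlerDifferential.D k B a) : B × Ω[B⁄k]) := by
    simp [J_apply, Derivation.leibniz, Prod.ext_iff]
  rw [this]
  exact add_mem (Submodule.smul_mem_smul ha trivial) (Submodule.smul_mem_smul hb trivial)

theorem span_range_J : Submodule.span B (Set.range (J (k := k) (B := B))) = ⊤ := by
  rw [eq_top_iff]
  rintro ⟨a, ω⟩ -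
  have h1 : ∀ a : B, ((a, 0) : B × Ω[B⁄k]) ∈ Submodule.span B (Set.range (J (k := k) (B := B))) := fun a => by
    have : ((a, 0) : B × Ω[B⁄k]) = a • J (k := k) 1 := by simp [J_apply, Prod.ext_iff]
    rw [this]
    exact Submodule.smul_mem _ _ (Submodule.subset_span ⟨1, rfl⟩)
  have h2 : ((0, ω) : B × Ω[B⁄k]) ∈ Submodule.span B (Set.range (J (k := k) (B := B))) := by
    have hω : ω ∈ Submodule.span B (Set.range (KaehlerDifferential.D k B)) := by
      rw [KaehlerDifferential.span_range_derivation]; trivial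
    induction hω using Submodule.span_induction with
    | mem x hx =>
      obtain ⟨b, rfl⟩ := hx
      have : ((0, KaehlerDifferential.D k B b) : B × Ω[B⁄k]) = J (k := k) b - (b, 0) := by
        simp [J_apply, Prod.ext_iff]
      rw [this]
      exact sub_mem (Submodule.subset_span ⟨b, rfl⟩) (h1 b)
    | zero => exact zero_mem _
    | add x y _ _ hx hy =>
      have : ((0, x + y) : B × Ω[B⁄k]) = (0, x) + (0, y) := by simp
      rw [this]; exact add_mem hx hy
    | smul c x _ hx =>
      have : ((0, c • x) : B × Ω[B⁄k]) = c • (0, x) := by simp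
      rw [this]; exact Submodule.smul_mem _ c hx
  simpa using add_mem (h1 a) h2

theorem sq_of_tang [Algebra.FormallySmooth k B] {φ : B →ₐ[k] k} {h : B} (ht : Tang φ h) : h ∈ pk φ ^ 2 := by
  classical
  let p := pk φ
  have hp : ∀ x, x - algebraMap k B (φ x) ∈ p := fun x => by simp [p, RingHom.mem_ker]
  have hh : φ h = 0 := by simpa [J_apply] using ht (LinearMap.fst B B Ω[B⁄k])
  obtain ⟨s, hs⟩ := (Module.projective_def (R := B) (P := Ω[B⁄k])).mp inferInstance
  have hDh : KaehlerDifferential.D k B h ∈ p • (⊤ : Submodule B Ω[B⁄k]) := by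
    rw [← hs (KaehlerDifferential.D k B h), Finsupp.linearCombination_apply]
    refine Submodule.sum_mem _ fun ω _ => Submodule.smul_mem_smul ?_ trivial
    have := ht (((Finsupp.lapply ω).comp s).comp (LinearMap.snd B B Ω[B⁄k]))
    simpa [p, RingHom.mem_ker, J_apply] using this
  have hcls : ∀ (a : B) (y : p.Cotangent), a • y = φ a • y := fun a y => by
    obtain ⟨y, rfl⟩ := p.toCotangent_surjective y
    rw [← algebraMap_smul B (φ a) (p.toCotangent y), ← sub_eq_zero, ← sub_smul, ← map_smul,
      Ideal.toCotangent_eq_zero, Submodule.coe_smul, smul_eq_mul, pow_two]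
    exact Ideal.mul_mem_mul (hp a) y.2
  let D₀ : Derivation k B p.Cotangent :=
    Derivation.mk'
      { toFun := fun b => p.toCotangent ⟨b - algebraMap k B (φ b), hp b⟩
        map_add' := fun a b => by
          rw [← map_add]; congr 1; ext
          simp only [map_add, Submodule.coe_add]; ring
        map_smul' := fun c b => by
          rw [RingHom.id_apply, ← algebraMap_smul B c (p.toCotangent _), ← map_smul]; congr 1; ext
          simp [Algebra.smul_def, mul_sub] }
      fun a b => by
        show p.toCotangent _ = a • p.toCotangent _ + b • p.toCotangent _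
        rw [← map_smul, ← map_smul, ← map_add, Ideal.toCotangent_eq]
        have := Ideal.mul_mem_mul (hp a) (hp b)
        rw [← pow_two] at this
        convert neg_mem this using 1
        simp only [Submodule.coe_add, Submodule.coe_smul, smul_eq_mul, map_mul]
        ring
  have h0 : D₀.liftKaehlerDifferential (KaehlerDifferential.D k B h) = 0 := by
    refine Submodule.smul_induction_on hDh (fun a ha y _ => ?_) fun x y hx hy => by rw [map_add, hx, hy, add_zero]
    rw [map_smul, hcls, show φ a = 0 from ha, zero_smul]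
  rw [Derivation.liftKaehlerDifferential_comp_D] at h0
  change p.toCotangent _ = 0 at h0
  rw [Ideal.toCotangent_eq_zero] at h0
  simpa [hh] using h0

theorem tang_of_sq {φ : B →ₐ[k] k} {h : B} (hh : h ∈ pk φ ^ 2) : Tang φ h := fun ℓ => by
  refine Submodule.smul_induction_on (J_mem_smul hh) (fun a ha y _ => ?_) fun x y hx hy => by
    rw [map_add, map_add, hx, hy, add_zero]
  rw [map_smul, smul_eq_mul, map_mul, show φ a = 0 from ha, zero_mul]

variable {N : ℕ} (g : Fin N → B)

/-- A family separating 1-jets gives a matrix parametrising its members singular at a point. -/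
theorem exists_param [IsAlgClosed k] [Algebra.Smooth k B]
    (hjet : ∀ p : Ideal B, p.IsMaximal → ∀ b : B, ∃ c : Fin N → k, b - ∑ l, c l • g l ∈ p ^ 2) :
    ∃ Mat : Fin N → Fin N → B,
      (∀ (φ : B →ₐ[k] k) (c : Fin N → k), Tang φ (∑ l, (∑ a, φ (Mat l a) * c a) • g l)) ∧
      (∀ (φ : B →ₐ[k] k) (c : Fin N → k), Tang φ (∑ l, c l • g l) → ∀ l, ∑ a, φ (Mat l a) * c a = c l) := by
  classical
  let M : (Fin N → B) →ₗ[B] B × Ω[B⁄k] := Fintype.linearCombination B fun l => J (k := k) (g l)
  have hM : ∀ c : Fin N → k, M (fun l => algebraMap k B (c l)) = J (k := k) (∑ l, c l • g l) := fun c => by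
    simp [M, Fintype.linearCombination_apply, algebraMap_smul]
  have hsurj : Function.Surjective M := by
    haveI : Module.Finite B Ω[B⁄k] := inferInstance
    rw [← LinearMap.range_eq_top]
    suffices hN : ∀ y : (B × Ω[B⁄k]) ⧸ LinearMap.range M, y = 0 from
      Submodule.eq_top_iff'.mpr fun x => (Submodule.Quotient.mk_eq_zero _).mp (hN (Submodule.Quotient.mk x))
    suffices hann : (⊤ : Submodule B ((B × Ω[B⁄k]) ⧸ LinearMap.range M)).annihilator = ⊤ by
      intro y
      rw [Ideal.eq_top_iff_one, Submodule.mem_annihilator] at hann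
      simpa using hann y trivial
    by_contra hne
    obtain ⟨p, hp, hle⟩ := Ideal.exists_le_maximal _ hne
    have hsm : (⊤ : Submodule B ((B × Ω[B⁄k]) ⧸ LinearMap.range M)) ≤ p • ⊤ := by
      have e : (⊤ : Submodule B ((B × Ω[B⁄k]) ⧸ LinearMap.range M)) =
          (Submodule.span B (Set.range (J (k := k) (B := B)))).map (LinearMap.range M).mkQ := by
        rw [span_range_J, Submodule.map_top, Submodule.range_mkQ]
      conv_lhs => rw [e]
      rw [Submodule.map_span, Submodule.span_le]
      rintro _ ⟨_, ⟨b, rfl⟩, rfl⟩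
      obtain ⟨c, hc⟩ := hjet p hp b
      have h1 : (LinearMap.range M).mkQ (J (k := k) b) =
          (LinearMap.range M).mkQ (J (k := k) (b - ∑ l, c l • g l)) := by
        rw [map_sub, map_sub, ← hM, show (LinearMap.range M).mkQ (M fun l => algebraMap k B (c l)) = 0 from
          (Submodule.Quotient.mk_eq_zero _).mpr ⟨_, rfl⟩, sub_zero]
      rw [SetLike.mem_coe, h1]
      refine Submodule.smul_induction_on (J_mem_smul hc) (fun a ha y _ => ?_) fun x y hx hy => ?_
      · rw [map_smul]; exact Submodule.smul_mem_smul ha trivial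
      · rw [map_add]; exact add_mem hx hy
    obtain ⟨r, hr1, hr0⟩ :=
      Submodule.exists_sub_one_mem_and_smul_eq_zero_of_fg_of_le_smul p ⊤ Module.Finite.fg_top hsm
    have hrp : r ∈ p := hle (Submodule.mem_annihilator.mpr hr0)
    exact hp.ne_top ((Ideal.eq_top_iff_one p).mpr (by simpa using p.sub_mem hrp hr1))
  haveI : Module.Projective B (B × Ω[B⁄k]) := inferInstance
  obtain ⟨S, hS⟩ := Module.projective_lifting_property M LinearMap.id hsurj
  refine ⟨fun l a => (Pi.single a (1 : B) : Fin N → B) l - S (J (k := k) (g a)) l, fun φ c ℓ => ?_,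
    fun φ c ht l => ?_⟩
  · have key : ∀ a, ∑ l, ((Pi.single a (1 : B) : Fin N → B) l - S (J (k := k) (g a)) l) * ℓ (J (k := k) (g l)) = 0 := by
      intro a
      have e1 : ∀ x : Fin N → B, ∑ l, x l * ℓ (J (k := k) (g l)) = ℓ (M x) := fun x => by
        simp [M, Fintype.linearCombination_apply]
      simp only [sub_mul, Finset.sum_sub_distrib, e1]
      rw [show M (S (J (k := k) (g a))) = J (k := k) (g a) from LinearMap.congr_fun hS _,
        show M (Pi.single a 1) = J (k := k) (g a) by simp [M, Fintype.linearCombination_apply_single], sub_self]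
    have e2 : ∀ x : Fin N → k, φ (ℓ (J (k := k) (∑ l, x l • g l))) = ∑ l, x l * φ (ℓ (J (k := k) (g l))) := fun x => by
      simp only [map_sum, map_smul, LinearMap.map_smul_of_tower, smul_eq_mul]
    rw [e2]
    simp only [Finset.sum_mul]
    rw [Finset.sum_comm]
    refine Finset.sum_eq_zero fun a _ => ?_
    calc _ = c a * φ (∑ l, ((Pi.single a (1 : B) : Fin N → B) l - S (J (k := k) (g a)) l) * ℓ (J (k := k) (g l))) := by
          rw [map_sum, Finset.mul_sum]
          refine Finset.sum_congr rfl fun l _ => ?_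
          rw [map_mul]; ring
      _ = 0 := by rw [key, map_zero, mul_zero]
  · have h0 := ht ((LinearMap.proj l).comp S)
    rw [← hM] at h0
    have h1 : ∑ a, φ (S (J (k := k) (g a)) l) * c a = 0 := by
      rw [← h0]
      simp [M, Fintype.linearCombination_apply, Finset.sum_apply, mul_comm]
    simp only [map_sub, sub_mul, Finset.sum_sub_distrib, h1, sub_zero]
    rw [Finset.sum_eq_single l]
    · simp
    · intro a _ ha
      simp [Pi.single_eq_of_ne ha.symm]
    · simp

/-- The pull-back of a polynomial along the parametrisation. -/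
theorem exists_pullback [IsAlgClosed k] [Algebra.Smooth k B]
    (hjet : ∀ p : Ideal B, p.IsMaximal → ∀ b : B, ∃ c : Fin N → k, b - ∑ l, c l • g l ∈ p ^ 2) :
    ∃ Ψ : MvPolynomial (Fin N) k →ₐ[k] MvPolynomial (Fin N) B,
      (∀ (φ : B →ₐ[k] k) (P) (c : Fin N → k), Tang φ (∑ l, c l • g l) →
        MvPolynomial.eval c (MvPolynomial.map φ.toRingHom (Ψ P)) = MvPolynomial.eval c P) ∧
      (∀ (φ : B →ₐ[k] k) (c : Fin N → k), ∃ c' : Fin N → k, Tang φ (∑ l, c' l • g l) ∧ ∀ P,
        MvPolynomial.eval c (MvPolynomial.map φ.toRingHom (Ψ P)) = MvPolynomial.eval c' P) := by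
  classical
  obtain ⟨Mat, hA, hB⟩ := exists_param g hjet
  let Ψ : MvPolynomial (Fin N) k →ₐ[k] MvPolynomial (Fin N) B :=
    MvPolynomial.aeval fun l => ∑ a, MvPolynomial.C (Mat l a) * MvPolynomial.X a
  have key : ∀ (φ : B →ₐ[k] k) (c : Fin N → k) (P),
      MvPolynomial.eval c (MvPolynomial.map φ.toRingHom (Ψ P)) =
        MvPolynomial.eval (fun l => ∑ a, φ (Mat l a) * c a) P := by
    intro φ c P
    induction P using MvPolynomial.induction_on with
    | C a => simp [Ψ]
    | add p q hp hq => simp only [map_add, hp, hq]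
    | mul_X p l hp =>
      simp only [map_mul, hp, MvPolynomial.eval_X]
      congr 1
      simp [Ψ]
  refine ⟨Ψ, fun φ P c ht => ?_, fun φ c => ⟨_, hA φ c, key φ c⟩⟩
  rw [key]
  rw [funext (hB φ c ht)]

theorem eq_zero_of_points [IsAlgClosed k] [Algebra.FiniteType k B] [IsReduced B] (x : B)
    (h : ∀ φ : B →ₐ[k] k, φ x = 0) : x = 0 := by
  haveI : IsJacobsonRing B := isJacobsonRing_of_finiteType (A := k) (B := B)
  have hj : x ∈ (⊥ : Ideal B).jacobson := by
    refine Submodule.mem_sInf.mpr fun p hp => ?_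
    haveI := hp.2
    obtain ⟨φ, hφ⟩ := GrothLib.Jets.exists_point (k := k) p
    rw [← hφ]
    exact h φ
  rw [← Ideal.radical_eq_jacobson] at hj
  exact (mem_nilradical.mp hj).eq_zero

theorem map_eq_zero_of_eval [IsAlgClosed k] (φ : B →ₐ[k] k) (P : MvPolynomial (Fin N) B)
    (h : ∀ c : Fin N → k, MvPolynomial.eval c (MvPolynomial.map φ.toRingHom P) = 0) (e : Fin N →₀ ℕ) :
    φ (P.coeff e) = 0 := by
  haveI : Infinite k := IsAlgClosed.instInfinite
  have := congrArg (MvPolynomial.coeff e) (MvPolynomial.funext (q := 0) fun c => (h c).trans (map_zero _).symm)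
  rwa [MvPolynomial.coeff_map, MvPolynomial.coeff_zero] at this

/-- If a product vanishes on the forms singular somewhere, one factor does. -/
theorem eq_or_of_mul [IsAlgClosed k] [IsDomain B] [Algebra.Smooth k B]
    (hjet : ∀ p : Ideal B, p.IsMaximal → ∀ b : B, ∃ c : Fin N → k, b - ∑ l, c l • g l ∈ p ^ 2)
    (P Q : MvPolynomial (Fin N) k)
    (h : ∀ (φ : B →ₐ[k] k) (c : Fin N → k), Tang φ (∑ l, c l • g l) →
      MvPolynomial.eval c P * MvPolynomial.eval c Q = 0) :
    (∀ (φ : B →ₐ[k] k) (c : Fin N → k), Tang φ (∑ l, c l • g l) → MvPolynomial.eval c P = 0) ∨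
    (∀ (φ : B →ₐ[k] k) (c : Fin N → k), Tang φ (∑ l, c l • g l) → MvPolynomial.eval c Q = 0) := by
  obtain ⟨Ψ, hΨ, hΨ'⟩ := exists_pullback g hjet
  have h0 : Ψ P * Ψ Q = 0 := by
    ext e
    rw [MvPolynomial.coeff_zero]
    refine eq_zero_of_points (k := k) _ fun φ => map_eq_zero_of_eval φ _ (fun c => ?_) e
    obtain ⟨c', hc', he⟩ := hΨ' φ c
    rw [map_mul, map_mul, he, he, h φ c' hc']
  rcases mul_eq_zero.mp h0 with h1 | h1
  · exact Or.inl fun φ c hc => by rw [← hΨ φ P c hc, h1, map_zero, map_zero]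
  · exact Or.inr fun φ c hc => by rw [← hΨ φ Q c hc, h1, map_zero, map_zero]

/-- Vanishing over a nonempty open spreads. -/
theorem eq_zero_of_dense [IsAlgClosed k] [IsDomain B] [Algebra.Smooth k B]
    (hjet : ∀ p : Ideal B, p.IsMaximal → ∀ b : B, ∃ c : Fin N → k, b - ∑ l, c l • g l ∈ p ^ 2)
    (P : MvPolynomial (Fin N) k) (t : B) (ht : t ≠ 0)
    (h : ∀ (φ : B →ₐ[k] k), φ t ≠ 0 → ∀ c : Fin N → k, Tang φ (∑ l, c l • g l) → MvPolynomial.eval c P = 0)
    (φ : B →ₐ[k] k) (c : Fin N → k) (hc : Tang φ (∑ l, c l • g l)) : MvPolynomial.eval c P = 0 := by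
  obtain ⟨Ψ, hΨ, hΨ'⟩ := exists_pullback g hjet
  have h0 : MvPolynomial.C t * Ψ P = 0 := by
    ext e
    rw [MvPolynomial.coeff_zero]
    refine eq_zero_of_points (k := k) _ fun φ => map_eq_zero_of_eval φ _ (fun c => ?_) e
    rw [map_mul, map_mul, MvPolynomial.map_C, MvPolynomial.eval_C]
    by_cases hφ : φ t = 0
    · simp [hφ]
    · obtain ⟨c', hc', he⟩ := hΨ' φ c
      rw [he, h φ hφ c' hc', mul_zero]
  have h1 : Ψ P = 0 := (mul_eq_zero.mp h0).resolve_left fun e => ht (MvPolynomial.C_eq_zero.mp e)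
  rw [← hΨ φ P c hc, h1, map_zero, map_zero]

/-- The zero scheme of a function in the square of a maximal ideal is not smooth. -/
theorem not_formallySmooth [IsDomain B] [Algebra.FormallySmooth k B] (h : B) (hne : h ≠ 0) (p : Ideal B)
    [hp : p.IsMaximal] (hh : h ∈ p ^ 2) : ¬ Algebra.FormallySmooth k (B ⧸ Ideal.span {h}) := by
  intro hC
  let C := B ⧸ Ideal.span {h}
  let I := RingHom.ker (algebraMap B C)
  have hI : ∀ x, x ∈ I ↔ x ∈ Ideal.span {h} := GrothLib.HypersurfaceSmooth.mem_ker_iff h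
  let fc : I.Cotangent := I.toCotangent ⟨h, (hI h).2 (Ideal.mem_span_singleton_self h)⟩
  obtain ⟨l, hl⟩ := (Algebra.FormallySmooth.iff_split_injection (R := k) (P := B) (A := C)
    Ideal.Quotient.mk_surjective).mp hC
  have h2 : l (1 ⊗ₜ KaehlerDifferential.D k B h) = fc := by
    have := LinearMap.congr_fun hl fc
    simp only [fc, LinearMap.comp_apply, LinearMap.id_apply] at this ⊢
    exact this
  have hgen : ∀ z : I.Cotangent, ∃ b : B, z = b • fc := fun z => by
    obtain ⟨⟨y, hy⟩, rfl⟩ := Ideal.toCotangent_surjective _ z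
    obtain ⟨a, rfl⟩ := Ideal.mem_span_singleton'.1 ((hI y).1 hy)
    exact ⟨a, by rw [← map_smul]; rfl⟩
  have hD : KaehlerDifferential.D k B h ∈ p • (⊤ : Submodule B Ω[B⁄k]) := by
    have := Submodule.mem_map_of_mem (f := LinearMap.snd B B Ω[B⁄k]) (J_mem_smul (k := k) hh)
    rw [Submodule.map_smul''] at this
    exact Submodule.smul_mono le_rfl le_top this
  obtain ⟨a, ha, hfa⟩ : ∃ a ∈ p, fc = a • fc := by
    have h3 : ∀ ω ∈ p • (⊤ : Submodule B Ω[B⁄k]), ∃ a ∈ p, l ((1 : C) ⊗ₜ[B] ω) = a • fc := by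
      intro ω hω
      refine Submodule.smul_induction_on hω (fun a ha y _ => ?_) fun x y hx hy => ?_
      · obtain ⟨b, hb⟩ := hgen (l ((1 : C) ⊗ₜ[B] y))
        refine ⟨a * b, Ideal.mul_mem_right _ _ ha, ?_⟩
        rw [TensorProduct.tmul_smul, map_smul, hb, smul_smul]
      · obtain ⟨a, ha, hx⟩ := hx
        obtain ⟨b, hb, hy⟩ := hy
        exact ⟨a + b, add_mem ha hb, by rw [TensorProduct.tmul_add, map_add, hx, hy, add_smul]⟩
    obtain ⟨a, ha, e⟩ := h3 _ hD
    exact ⟨a, ha, h2.symm.trans e⟩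
  have h4 : (1 - a) • fc = 0 := by rw [sub_smul, one_smul, ← hfa, sub_self]
  rw [← map_smul, Ideal.toCotangent_eq_zero] at h4
  change (1 - a) * h ∈ I ^ 2 at h4
  rw [show I = Ideal.span {h} from Ideal.ext hI, Ideal.span_singleton_pow, Ideal.mem_span_singleton'] at h4
  obtain ⟨b, hb⟩ := h4
  have h5 : 1 - a = b * h := mul_right_cancel₀ hne (by rw [← hb]; ring)
  refine hp.ne_top ((Ideal.eq_top_iff_one p).mpr ?_)
  have : (1 : B) = a + b * h := by rw [← h5]; ring
  rw [this]
  exact add_mem ha (Ideal.mul_mem_left _ _ (Ideal.pow_le_self two_ne_zero hh))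

end GrothLib.DualVar12
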