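import Groth.Agent.Lib.DualVar12.Points

/-!
# The dual variety of an embedded smooth projective variety is closed and irreducible
-/

set_option autoImplicit false
set_option linter.all false
set_option maxHeartbeats 1000000
set_option backward.isDefEq.respectTransparency false
set_option backward.isDefEq.respectTransparency.types false
universe u

open CategoryTheory CategoryTheory.Limits AlgebraicGeometry TopologicalSpace

noncomputable section

namespace GrothLib.DualVar12

open GrothLib.Jets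

attribute [local instance] constAlgebra

section Eval

variable {k : Type u} [Field k]

/-- A function pulled back from an affine scheme vanishes at a `k`-point iff its value does. -/
theorem mem_basicOpen_iff_of_point {W : Scheme.{u}} (y : Spec (CommRingCat.of k) ⟶ W) (c : Γ(W, ⊤)) (v : k)
    (hv : y.appTop c = (Scheme.ΓSpecIso (CommRingCat.of k)).inv v) (a : Spec (CommRingCat.of k)) :
    y a ∈ W.basicOpen c ↔ v ≠ 0 := by
  show a ∈ y ⁻¹ᵁ W.basicOpen c ↔ _
  rw [Scheme.preimage_basicOpen_top, hv, basicOpen_eq_of_affine]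
  show v ∉ a.asIdeal ↔ _
  rw [(Ideal.eq_bot_or_top a.asIdeal).resolve_right a.2.ne_top, Ideal.mem_bot]

theorem appTop_pullback {W : Scheme.{u}} {A : CommRingCat.{u}} (y : Spec (CommRingCat.of k) ⟶ W)
    (m : W ⟶ Spec A) (g : A ⟶ CommRingCat.of k) (hg : y ≫ m = Spec.map g) (b : A) :
    y.appTop (m.appTop ((Scheme.ΓSpecIso A).inv b)) = (Scheme.ΓSpecIso (CommRingCat.of k)).inv (g b) := by
  show ((Scheme.ΓSpecIso A).inv ≫ m.appTop ≫ y.appTop) b = (g ≫ (Scheme.ΓSpecIso (CommRingCat.of k)).inv) b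
  rw [← Scheme.Hom.comp_appTop, hg, Scheme.ΓSpecIso_inv_naturality]

end Eval

variable {k : Type u} [Field k] [IsAlgClosed k] {r : ℕ} {X : Scheme.{u}} (i : X ⟶ CohB1.ProjSpace r k)
  [IsClosedImmersion i] [X.Over (Spec (CommRingCat.of k))]
  (hi : i ≫ CohB1.ProjSpace.toSpec r k = X ↘ Spec (CommRingCat.of k))
  [IsIntegral X] {n : ℕ} [SmoothOfRelativeDimension n (X ↘ Spec (CommRingCat.of k))]
  [IsProper (X ↘ Spec (CommRingCat.of k))]

include hi in
omit [IsProper (X ↘ Spec (CommRingCat.of k))] in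
theorem jets_chart (j : Fin (r + 1)) (d : ℕ) (hd : 1 ≤ d) {N : ℕ}
    (b : Module.Basis (Fin N) k (LefPen.Form r k d)) (p : Ideal Γ(X, (chartX i j).1)) (hp : p.IsMaximal)
    (x : Γ(X, (chartX i j).1)) : ∃ c : Fin N → k, x - ∑ l, c l • ev i j (b l) ∈ p ^ 2 := by
  have hmon : ∀ l : Fin (r + 1), ((MvPolynomial.X l * MvPolynomial.X j ^ (d - 1) :
      MvPolynomial (Fin (r + 1)) k)) ∈ CohB1.polyGrading r k d := fun l => by
    have := (MvPolynomial.isHomogeneous_X k l).mul ((MvPolynomial.isHomogeneous_X k j).pow (d - 1))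
    rwa [one_mul, show 1 + (d - 1) = d by omega] at this
  haveI := finiteType_chart i hi j
  let e : LefPen.Form r k d →ₗ[k] Γ(X, (chartX i j).1) :=
    (MvPolynomial.aeval (coord i j)).toLinearMap.comp (CohB1.polyGrading r k d).subtype
  obtain ⟨c, hc⟩ := jets_of_generators (coord i j) j (coord_self i j) (exists_aeval_coord i hi j) p x
  refine ⟨b.equivFun (∑ l, c l • (⟨_, hmon l⟩ : LefPen.Form r k d)), ?_⟩
  show x - ∑ l, _ • e (b l) ∈ p ^ 2
  simp only [← map_smul]
  rw [← map_sum, b.sum_equivFun, map_sum]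
  convert hc using 3 with l
  rw [map_smul]
  congr 1
  show MvPolynomial.aeval (coord i j) (MvPolynomial.X l * MvPolynomial.X j ^ (d - 1)) = coord i j l
  rw [map_mul, map_pow, MvPolynomial.aeval_X, MvPolynomial.aeval_X, coord_self, one_pow, mul_one]

omit [IsAlgClosed k] [IsIntegral X] [IsProper (X ↘ Spec (CommRingCat.of k))] in
theorem sum_ev (j : Fin (r + 1)) {d : ℕ} {N : ℕ} (b : Module.Basis (Fin N) k (LefPen.Form r k d))
    (H : LefPen.Form r k d) : ∑ l, b.equivFun H l • ev i j (b l) = ev i j H := by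
  let e : LefPen.Form r k d →ₗ[k] Γ(X, (chartX i j).1) :=
    (MvPolynomial.aeval (coord i j)).toLinearMap.comp (CohB1.polyGrading r k d).subtype
  show ∑ l, _ • e (b l) = e H
  simp only [← map_smul]
  rw [← map_sum, b.sum_equivFun]

theorem isPolyFun_eval {d : ℕ} {N : ℕ} (b : Module.Basis (Fin N) k (LefPen.Form r k d))
    (P : MvPolynomial (Fin N) k) : LefPen.IsPolyFun k fun H => MvPolynomial.eval (b.equivFun H) P := by
  show (fun H => MvPolynomial.eval (b.equivFun H) P) ∈ Algebra.adjoin k _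
  induction P using MvPolynomial.induction_on with
  | C a =>
    have : (fun H : LefPen.Form r k d => MvPolynomial.eval (b.equivFun H) (MvPolynomial.C a)) =
        algebraMap k _ a := by funext H; simp
    rw [this]; exact Subalgebra.algebraMap_mem _ a
  | add p q hp hq => simp only [map_add]; exact add_mem hp hq
  | mul_X p l hp =>
    simp only [map_mul, MvPolynomial.eval_X]
    exact mul_mem hp (Algebra.subset_adjoin ⟨b.coord l, by funext H; simp [Module.Basis.equivFun_apply]⟩)

theorem exists_eval_of_isPolyFun {d : ℕ} {N : ℕ} (b : Module.Basis (Fin N) k (LefPen.Form r k d))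
    {f : LefPen.Form r k d → k} (hf : LefPen.IsPolyFun k f) :
    ∃ P : MvPolynomial (Fin N) k, ∀ H, f H = MvPolynomial.eval (b.equivFun H) P := by
  refine Algebra.adjoin_induction ?_ ?_ ?_ ?_ hf
  · rintro _ ⟨l, rfl⟩
    refine ⟨∑ a, MvPolynomial.C (l (b a)) * MvPolynomial.X a, fun H => ?_⟩
    show l H = _
    conv_lhs => rw [← b.sum_equivFun H]
    simp only [map_sum, map_smul, smul_eq_mul, map_mul, MvPolynomial.eval_C, MvPolynomial.eval_X]
    exact Finset.sum_congr rfl fun a _ => mul_comm _ _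
  · intro c
    exact ⟨MvPolynomial.C c, fun H => by simp⟩
  · rintro f g _ _ ⟨P, hP⟩ ⟨Q, hQ⟩
    exact ⟨P + Q, fun H => by simp [hP, hQ]⟩
  · rintro f g _ _ ⟨P, hP⟩ ⟨Q, hQ⟩
    exact ⟨P * Q, fun H => by simp [hP, hQ]⟩

include hi in
/-- The incidence argument: away from the singular forms some polynomial does not vanish. -/
theorem exists_separating [Smooth (X ↘ Spec (CommRingCat.of k))] (d : ℕ) {N : ℕ} (b : Module.Basis (Fin N) k (LefPen.Form r k d))
    (H₀ : LefPen.Form r k d) (h₀ : ¬ Bad i H₀) :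
    ∃ P : MvPolynomial (Fin N) k, MvPolynomial.eval (b.equivFun H₀) P ≠ 0 ∧
      ∀ H, MvPolynomial.eval (b.equivFun H) P ≠ 0 → ¬ Bad i H := by
  classical
  let R := MvPolynomial (Fin N) k
  let C : Spec (CommRingCat.of R) ⟶ Spec (CommRingCat.of k) := Spec.map (CommRingCat.ofHom MvPolynomial.C)
  haveI hCft : LocallyOfFiniteType C := by
    show LocallyOfFiniteType (Spec.map (CommRingCat.ofHom MvPolynomial.C))
    rw [HasRingHomProperty.Spec_iff (P := @LocallyOfFiniteType)]
    exact RingHom.finiteType_algebraMap.mpr (inferInstance : Algebra.FiniteType k R)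
  let Y := pullback (X ↘ Spec (CommRingCat.of k)) C
  let π : Y ⟶ Spec (CommRingCat.of R) := pullback.snd _ _
  haveI : IsProper π := MorphismProperty.pullback_snd _ _ inferInstance
  haveI : CompactSpace Y := QuasiCompact.compactSpace_of_compactSpace π
  let evc : (Fin N → k) → (CommRingCat.of R ⟶ CommRingCat.of k) := fun c => CommRingCat.ofHom (MvPolynomial.eval c)
  let ptH : (Fin N → k) → (Spec (CommRingCat.of k) ⟶ Spec (CommRingCat.of R)) := fun c => Spec.map (evc c)
  have hptH : ∀ c, ptH c ≫ C = 𝟙 _ := fun c => by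
    simp only [ptH, C, ← Spec.map_comp, evc, ← CommRingCat.ofHom_comp]
    rw [show (MvPolynomial.eval c).comp MvPolynomial.C = RingHom.id k from RingHom.ext fun a => MvPolynomial.eval_C a,
      CommRingCat.ofHom_id, Spec.map_id]
  let yPt : ∀ (j : Fin (r + 1)) (φ : Γ(X, (chartX i j).1) →ₐ[k] k) (c : Fin N → k), Spec (CommRingCat.of k) ⟶ Y :=
    fun j φ c => pullback.lift (ptOf (chartX i j) φ) (ptH c) (by rw [ptOf_over, hptH])
  let S : Set Y := {y | ∃ (j : Fin (r + 1)) (φ : Γ(X, (chartX i j).1) →ₐ[k] k) (H : LefPen.Form r k d),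
    ev i j H ∈ pk φ ^ 2 ∧ y = yPt j φ (b.equivFun H) (IsLocalRing.closedPoint k)}
  let E : Set Y := closure S
  have hclosed : IsClosed (π '' E) := π.isClosedMap _ isClosed_closure
  let a : (Fin N → k) → Spec (CommRingCat.of R) := fun c => ptH c (IsLocalRing.closedPoint k)
  have ha : ∀ c, (a c).asIdeal = RingHom.ker (MvPolynomial.eval c) := fun c => by
    show Ideal.comap (MvPolynomial.eval c) (IsLocalRing.closedPoint k).asIdeal = _
    rw [RingHom.ker_eq_comap_bot, show (IsLocalRing.closedPoint k).asIdeal = ⊥ from IsLocalRing.maximalIdeal_eq_bot]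
  have hamax : ∀ c, (a c).asIdeal.IsMaximal := fun c => by
    rw [ha]; exact RingHom.ker_isMaximal_of_surjective _ fun v => ⟨MvPolynomial.C v, MvPolynomial.eval_C v⟩
  have hbad : ∀ H, Bad i H → a (b.equivFun H) ∈ π '' E := by
    rintro H ⟨j, φ, hφ⟩
    refine ⟨_, subset_closure ⟨j, φ, H, hφ, rfl⟩, ?_⟩
    show (yPt j φ (b.equivFun H) ≫ π) (IsLocalRing.closedPoint k) = _
    rw [pullback.lift_snd]
  have hgood : a (b.equivFun H₀) ∉ π '' E := by
    intro hmem
    set c₀ := b.equivFun H₀ with hc₀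
    let F : Set Y := E ∩ π ⁻¹' {a c₀}
    have hF : IsClosed F := isClosed_closure.inter
      (((PrimeSpectrum.isClosed_singleton_iff_isMaximal _).mpr (hamax c₀)).preimage π.continuous)
    obtain ⟨y₀, hy₀E, hy₀⟩ := hmem
    obtain ⟨z, ⟨hzE, hzπ⟩, hzc⟩ := hF.exists_closed_singleton ⟨y₀, hy₀E, hy₀⟩
    let y := pointOfClosedPoint (π ≫ C) z hzc
    have hy : y ≫ π ≫ C = 𝟙 _ := pointOfClosedPoint_comp _ _ _
    have hyz : ∀ t, y t = z := pointOfClosedPoint_apply _ _ _
    obtain ⟨g, hg⟩ := Spec.map_surjective (y ≫ π)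
    have hgC : ∀ v : k, g (MvPolynomial.C v) = v := fun v => by
      have e : CommRingCat.ofHom (MvPolynomial.C : k →+* R) ≫ g = 𝟙 _ := by
        apply Spec.map_injective
        rw [Spec.map_comp, hg, Category.assoc, Spec.map_id]
        exact hy
      exact congrArg (fun f => f.hom v) e
    have hgX : ∀ l, g (MvPolynomial.X l) = c₀ l := fun l => by
      have h1 : (Spec.map g) (IsLocalRing.closedPoint k) = a c₀ := by
        rw [hg]
        show π (y _) = _
        rw [hyz]
        exact hzπ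
      have h2 : MvPolynomial.X l - MvPolynomial.C (c₀ l) ∈ (a c₀).asIdeal := by
        rw [ha, RingHom.mem_ker, map_sub, MvPolynomial.eval_X, MvPolynomial.eval_C, sub_self]
      rw [← h1] at h2
      change g (MvPolynomial.X l - MvPolynomial.C (c₀ l)) ∈ (IsLocalRing.closedPoint k).asIdeal at h2
      rw [show (IsLocalRing.closedPoint k).asIdeal = ⊥ from IsLocalRing.maximalIdeal_eq_bot, Ideal.mem_bot, map_sub, hgC, sub_eq_zero] at h2
      exact h2
    have hxk : (y ≫ pullback.fst _ _) ≫ (X ↘ Spec (CommRingCat.of k)) = 𝟙 _ := by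
      rw [Category.assoc, pullback.condition]; exact hy
    obtain ⟨j, hj⟩ := Opens.mem_iSup.mp
      ((GrothLib.Ample.ProjMap.iSup_basicOpen_X r k).ge (Opens.mem_top (i ((pullback.fst _ _ : Y ⟶ X) z))))
    obtain ⟨φ, hφ⟩ := exists_ptOf (chartX i j) (y ≫ pullback.fst _ _) hxk (by
      show (pullback.fst _ _ : Y ⟶ X) (y _) ∈ _
      rw [hyz]; exact hj)
    refine h₀ ⟨j, φ, ?_⟩
    haveI : Algebra.Smooth k Γ(X, (chartX i j).1) := smooth_constHom (chartX i j)
    refine sq_of_tang fun ℓ => ?_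
    let O : Y.Opens := (pullback.fst _ _ : Y ⟶ X) ⁻¹ᵁ (chartX i j).1
    have hr : Set.range (O.ι ≫ (pullback.fst _ _ : Y ⟶ X)) ⊆ Set.range (chartX i j).2.fromSpec := by
      rintro _ ⟨t, rfl⟩
      rw [(chartX i j).2.range_fromSpec]
      exact t.2
    let m₁ : (O : Scheme) ⟶ Spec Γ(X, (chartX i j).1) := IsOpenImmersion.lift (chartX i j).2.fromSpec _ hr
    have hm₁ : m₁ ≫ (chartX i j).2.fromSpec = O.ι ≫ pullback.fst _ _ := IsOpenImmersion.lift_fac _ _ _
    let m₂ : (O : Scheme) ⟶ Spec (CommRingCat.of R) := O.ι ≫ π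
    let q : Fin N → Γ(X, (chartX i j).1) := fun l => ℓ (J (k := k) (ev i j (b l)))
    let Q : Γ((O : Scheme), ⊤) := ∑ l, m₁.appTop ((Scheme.ΓSpecIso _).inv (q l)) *
      m₂.appTop ((Scheme.ΓSpecIso (CommRingCat.of R)).inv (MvPolynomial.X l))
    have hval : ∀ (y' : Spec (CommRingCat.of k) ⟶ (O : Scheme)) (ψ : Γ(X, (chartX i j).1) →ₐ[k] k)
        (g' : CommRingCat.of R ⟶ CommRingCat.of k), y' ≫ O.ι ≫ pullback.fst _ _ = ptOf (chartX i j) ψ →
        y' ≫ O.ι ≫ π = Spec.map g' →
        y'.appTop Q = (Scheme.ΓSpecIso (CommRingCat.of k)).inv (∑ l, ψ (q l) * g' (MvPolynomial.X l)) := by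
      intro y' ψ g' h1 h2
      have e1 : y' ≫ m₁ = Spec.map (CommRingCat.ofHom ψ.toRingHom) := by
        rw [← cancel_mono (chartX i j).2.fromSpec, Category.assoc, hm₁]
        exact h1
      simp only [Q, map_sum, map_mul]
      refine Finset.sum_congr rfl fun l _ => ?_
      rw [appTop_pullback y' m₁ _ e1, appTop_pullback y' m₂ g' h2]
      rfl
    have hsum : ∀ (ψ : Γ(X, (chartX i j).1) →ₐ[k] k) (H : LefPen.Form r k d),
        ψ (ℓ (J (k := k) (ev i j H))) = ∑ l, ψ (q l) * b.equivFun H l := fun ψ H => by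
      rw [← sum_ev i j b H]
      simp only [map_sum, map_smul, LinearMap.map_smul_of_tower, smul_eq_mul, q]
      exact Finset.sum_congr rfl fun l _ => mul_comm _ _
    have hzO : z ∈ O := hj
    have hsub : O.ι ⁻¹' S ⊆ ((O : Scheme).basicOpen Q : Set (O : Scheme))ᶜ := by
      rintro w ⟨j', φ', H, hb, hw⟩ hQ
      have hwO : yPt j' φ' (b.equivFun H) (IsLocalRing.closedPoint k) ∈ O := hw ▸ w.2
      have hr' : Set.range (yPt j' φ' (b.equivFun H)) ⊆ Set.range O.ι := by
        rintro _ ⟨t, rfl⟩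
        rw [Scheme.Opens.range_ι, Subsingleton.elim t (IsLocalRing.closedPoint k)]
        exact hwO
      let y' := IsOpenImmersion.lift O.ι _ hr'
      have hy' : y' ≫ O.ι = yPt j' φ' (b.equivFun H) := IsOpenImmersion.lift_fac _ _ _
      have hwy : w = y' (IsLocalRing.closedPoint k) := by
        apply O.ι.isOpenEmbedding.injective
        rw [hw]
        show _ = (y' ≫ O.ι) _
        rw [hy']
      have hx' : ptOf (chartX i j') φ' (IsLocalRing.closedPoint k) ∈ (chartX i j).1 := by
        have h3 : (pullback.fst _ _ : Y ⟶ X) (yPt j' φ' (b.equivFun H) (IsLocalRing.closedPoint k)) ∈ (chartX i j).1 := hwO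
        change (yPt j' φ' (b.equivFun H) ≫ pullback.fst _ _) (IsLocalRing.closedPoint k) ∈ _ at h3
        rwa [pullback.lift_fst] at h3
      obtain ⟨ψ, hψ⟩ := exists_ptOf (chartX i j) (ptOf (chartX i j') φ') (ptOf_over _ _) hx'
      have hb' : ev i j H ∈ pk ψ ^ 2 := by
        rw [← badAt_ptOf_iff i j ψ (IsLocalRing.closedPoint k), hψ]
        exact badAt_congr i hi j' j _ H hx' ((badAt_ptOf_iff i j' φ' _ H).mpr hb)
      rw [hwy, SetLike.mem_coe, mem_basicOpen_iff_of_point y' Q _ (hval y' ψ (evc (b.equivFun H))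
        (by rw [reassoc_of% hy', pullback.lift_fst, hψ]) (by rw [reassoc_of% hy', pullback.lift_snd]))] at hQ
      refine hQ (Eq.trans ?_ ((hsum ψ H).symm.trans (tang_of_sq hb' ℓ)))
      exact Finset.sum_congr rfl fun l _ => congrArg (ψ (q l) * ·) (MvPolynomial.eval_X l)
    have hzZ : (⟨z, hzO⟩ : (O : Scheme)) ∈ ((O : Scheme).basicOpen Q : Set (O : Scheme))ᶜ := by
      refine closure_minimal hsub ((O : Scheme).basicOpen Q).2.isClosed_compl ?_
      rw [← O.ι.isOpenEmbedding.isOpenMap.preimage_closure_eq_closure_preimage O.ι.continuous]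
      exact hzE
    have hr' : Set.range y ⊆ Set.range O.ι := by
      rintro _ ⟨t, rfl⟩
      rw [Scheme.Opens.range_ι, hyz]
      exact hzO
    let y' := IsOpenImmersion.lift O.ι y hr'
    have hy' : y' ≫ O.ι = y := IsOpenImmersion.lift_fac _ _ _
    have hzy : (⟨z, hzO⟩ : (O : Scheme)) = y' (IsLocalRing.closedPoint k) := by
      apply O.ι.isOpenEmbedding.injective
      show z = (y' ≫ O.ι) _
      rw [hy', hyz]
    rw [hzy, Set.mem_compl_iff, SetLike.mem_coe, mem_basicOpen_iff_of_point y' Q _ (hval y' φ g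
      (by rw [reassoc_of% hy', hφ]) (by rw [reassoc_of% hy', hg])), not_not] at hzZ
    rw [hsum φ H₀, ← hzZ]
    exact Finset.sum_congr rfl fun l _ => by rw [hgX]
  obtain ⟨I, hI⟩ := (PrimeSpectrum.isClosed_iff_zeroLocus_ideal _).mp hclosed
  rw [hI, PrimeSpectrum.mem_zeroLocus, Set.not_subset] at hgood
  obtain ⟨P, hPI, hP⟩ := hgood
  refine ⟨P, ?_, fun H hH hb => hH ?_⟩
  · rw [SetLike.mem_coe, ha, RingHom.mem_ker] at hP
    exact hP
  · have h1 := hbad H hb
    rw [hI, PrimeSpectrum.mem_zeroLocus] at h1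
    have h2 : P ∈ (a (b.equivFun H)).asIdeal := h1 hPI
    rwa [ha, RingHom.mem_ker] at h2

include hi in
/-- The forms with transversal section form an open set and the others an irreducible one. -/
theorem dual_variety (hn : 1 ≤ n) (d : ℕ) (hd : 1 ≤ d) :
    LefPen.IsZOpen k {H : LefPen.Form r k d |
      LefPen.Transversal k n 1 (LefPen.secToSpec i ({H} : Set (LefPen.Form r k d)))} ∧
    ∀ f g : LefPen.Form r k d → k, LefPen.IsPolyFun k f → LefPen.IsPolyFun k g →
      (∀ H : LefPen.Form r k d, ¬ LefPen.Transversal k n 1 (LefPen.secToSpec i ({H} : Set (LefPen.Form r k d))) →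
        f H * g H = 0) →
      (∀ H : LefPen.Form r k d, ¬ LefPen.Transversal k n 1 (LefPen.secToSpec i ({H} : Set (LefPen.Form r k d))) → f H = 0) ∨
      (∀ H : LefPen.Form r k d, ¬ LefPen.Transversal k n 1 (LefPen.secToSpec i ({H} : Set (LefPen.Form r k d))) → g H = 0) := by
  classical
  haveI := FormBertini12.finite_form (k := k) (r := r) d
  haveI : Smooth (X ↘ Spec (CommRingCat.of k)) := SmoothOfRelativeDimension.smooth n _
  let b := Module.finBasis k (LefPen.Form r k d)
  have hiff : ∀ H : LefPen.Form r k d,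
      ¬ LefPen.Transversal k n 1 (LefPen.secToSpec i ({H} : Set (LefPen.Form r k d))) ↔ Bad i H := fun H =>
    ⟨fun h => by_contra fun hb => h (transversal_of_not_bad i hi hn H hb), not_transversal_of_bad i hi hn H⟩
  refine ⟨fun H₀ hH₀ => ?_, fun f g hf hg hfg => ?_⟩
  · obtain ⟨P, hP0, hP⟩ := exists_separating i hi d b H₀ (fun hb => (hiff H₀).mpr hb hH₀)
    exact ⟨_, isPolyFun_eval b P, hP0, fun H hH => transversal_of_not_bad i hi hn H (hP H hH)⟩
  obtain ⟨P, hP⟩ := exists_eval_of_isPolyFun b hf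
  obtain ⟨Q, hQ⟩ := exists_eval_of_isPolyFun b hg
  simp only [hiff] at hfg ⊢
  have hform : ∀ (j : Fin (r + 1)) (c : Fin (Module.finrank k (LefPen.Form r k d)) → k),
      ∑ l, c l • ev i j (b l) = ev i j (b.equivFun.symm c) := fun j c => by
    rw [← sum_ev i j b (b.equivFun.symm c), LinearEquiv.apply_symm_apply]
  let On : Fin (r + 1) → MvPolynomial (Fin (Module.finrank k (LefPen.Form r k d))) k → Prop := fun j P =>
    ∀ (φ : Γ(X, (chartX i j).1) →ₐ[k] k) (H : LefPen.Form r k d), ev i j H ∈ pk φ ^ 2 →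
      MvPolynomial.eval (b.equivFun H) P = 0
  have step : ∀ j, Nonempty (chartX i j).1 → On j P ∨ On j Q := by
    intro j hj
    haveI : Algebra.Smooth k Γ(X, (chartX i j).1) := smooth_constHom (chartX i j)
    rcases eq_or_of_mul (fun l => ev i j (b l)) (jets_chart i hi j d hd b) P Q (fun φ c hc => by
      rw [hform] at hc
      have := hfg (b.equivFun.symm c) ⟨j, φ, sq_of_tang hc⟩
      rwa [hP, hQ, LinearEquiv.apply_symm_apply] at this) with h | h
    · exact Or.inl fun φ H hH => h φ _ (by rw [sum_ev]; exact tang_of_sq hH)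
    · exact Or.inr fun φ H hH => h φ _ (by rw [sum_ev]; exact tang_of_sq hH)
  have spread : ∀ (P : MvPolynomial (Fin (Module.finrank k (LefPen.Form r k d))) k) (j j' : Fin (r + 1)),
      Nonempty (chartX i j).1 → On j P → On j' P := by
    intro P j j' hj hOn φ H hH
    haveI : Algebra.Smooth k Γ(X, (chartX i j').1) := smooth_constHom (chartX i j')
    have hne' : ((chartX i j').1 : Set X).Nonempty := ⟨_, ptOf_mem (chartX i j') φ (IsLocalRing.closedPoint k)⟩
    haveI : Nonempty (chartX i j').1 := hne'.to_subtype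
    obtain ⟨x, hx, hx'⟩ := nonempty_preirreducible_inter (chartX i j).1.2 (chartX i j').1.2
      ⟨_, hj.some.2⟩ hne'
    obtain ⟨t, htle, hxt⟩ := (chartX i j').2.exists_basicOpen_le ⟨x, hx⟩ hx'
    have ht : t ≠ 0 := fun e => by
      subst e
      rw [Scheme.basicOpen_zero] at hxt
      exact hxt
    refine eq_zero_of_dense (fun l => ev i j' (b l)) (jets_chart i hi j' d hd b) P t ht
      (fun ψ hψ c hc => ?_) φ _ (by rw [sum_ev]; exact tang_of_sq hH)
    rw [hform] at hc
    have hmem : ptOf (chartX i j') ψ (IsLocalRing.closedPoint k) ∈ X.basicOpen t := by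
      rw [ptOf_apply]
      show (⟨pk ψ, _⟩ : PrimeSpectrum Γ(X, (chartX i j').1)) ∈ (chartX i j').2.fromSpec ⁻¹ᵁ X.basicOpen t
      rw [(chartX i j').2.fromSpec_preimage_basicOpen]
      exact hψ
    obtain ⟨χ, hχ⟩ := exists_ptOf (chartX i j) (ptOf (chartX i j') ψ) (ptOf_over _ _) (htle hmem)
    have hb : BadAt i j (ptOf (chartX i j') ψ (IsLocalRing.closedPoint k)) (b.equivFun.symm c) :=
      badAt_congr i hi j' j _ _ (htle hmem) ((badAt_ptOf_iff i j' ψ _ _).mpr (sq_of_tang hc))
    rw [← hχ, badAt_ptOf_iff] at hb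
    have := hOn χ _ hb
    rwa [LinearEquiv.apply_symm_apply] at this
  obtain ⟨x⟩ := (inferInstance : Nonempty X)
  obtain ⟨j₀, hj₀⟩ := Opens.mem_iSup.mp
    ((GrothLib.Ample.ProjMap.iSup_basicOpen_X r k).ge (Opens.mem_top (i x)))
  have hne : Nonempty (chartX i j₀).1 := ⟨⟨x, hj₀⟩⟩
  rcases step j₀ hne with h | h
  · refine Or.inl fun H ⟨j, φ, hH⟩ => ?_
    rw [hP]; exact spread P j₀ j hne h φ H hH
  · refine Or.inr fun H ⟨j, φ, hH⟩ => ?_
    rw [hQ]; exact spread Q j₀ j hne h φ H hH

end GrothLib.DualVar12
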