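import Groth.Agent.Lib.DualVar12.Alg
import Groth.Agent.Lib.FormBertini12.Main

/-!
# Forms singular at a point of a smooth projective variety
-/

set_option autoImplicit false
set_option linter.all false
set_option maxHeartbeats 1000000
set_option backward.isDefEq.respectTransparency false
set_option backward.isDefEq.respectTransparency.types false
universe u

open CategoryTheory CategoryTheory.Limits AlgebraicGeometry TopologicalSpace

noncomputable section

namespace GrothLib.DualVar12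

open GrothLib.Jets

attribute [local instance] constAlgebra

section General

variable {k : Type u} [Field k] {Y : Scheme.{u}} [Y.Over (Spec (CommRingCat.of k))]

/-- The `k`-point of an affine open given by a character. -/
def ptOf (U : Y.affineOpens) (φ : Γ(Y, U.1) →ₐ[k] k) : Spec (CommRingCat.of k) ⟶ Y :=
  Spec.map (CommRingCat.ofHom φ.toRingHom) ≫ U.2.fromSpec

theorem ptOf_over (U : Y.affineOpens) (φ : Γ(Y, U.1) →ₐ[k] k) :
    ptOf U φ ≫ (Y ↘ Spec (CommRingCat.of k)) = 𝟙 _ := by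
  rw [ptOf, Category.assoc, fromSpec_over, ← Spec.map_comp, ← CommRingCat.ofHom_comp]
  have e : CommRingCat.ofHom (φ.toRingHom.comp (constHom (k := k) U.1)) = 𝟙 (CommRingCat.of k) := by
    ext c
    exact φ.commutes c
  rw [e, Spec.map_id]

theorem ptOf_apply (U : Y.affineOpens) (φ : Γ(Y, U.1) →ₐ[k] k) (a : Spec (CommRingCat.of k)) :
    ptOf U φ a = U.2.fromSpec ⟨pk φ, (pk_isMaximal φ).isPrime⟩ := by
  show U.2.fromSpec (Spec.map (CommRingCat.ofHom φ.toRingHom) a) = _
  congr 1
  apply PrimeSpectrum.ext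
  show Ideal.comap φ.toRingHom a.asIdeal = RingHom.ker φ.toRingHom
  haveI : a.asIdeal.IsPrime := a.2
  have : a.asIdeal = ⊥ := (Ideal.eq_bot_or_top a.asIdeal).resolve_right a.2.ne_top
  rw [this, RingHom.ker_eq_comap_bot]

theorem ptOf_mem (U : Y.affineOpens) (φ : Γ(Y, U.1) →ₐ[k] k) (a : Spec (CommRingCat.of k)) :
    ptOf U φ a ∈ U.1 := by
  rw [ptOf_apply]
  have h1 : U.2.fromSpec ⟨pk φ, (pk_isMaximal φ).isPrime⟩ ∈ Set.range U.2.fromSpec := ⟨_, rfl⟩
  rwa [U.2.range_fromSpec] at h1

theorem exists_ptOf (U : Y.affineOpens) (x : Spec (CommRingCat.of k) ⟶ Y)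
    (hx : x ≫ (Y ↘ Spec (CommRingCat.of k)) = 𝟙 _) (hU : x (IsLocalRing.closedPoint k) ∈ U.1) :
    ∃ φ : Γ(Y, U.1) →ₐ[k] k, ptOf U φ = x := by
  have hr : Set.range x ⊆ Set.range U.2.fromSpec := by
    rintro _ ⟨a, rfl⟩
    rw [U.2.range_fromSpec, Subsingleton.elim a (IsLocalRing.closedPoint k)]
    exact hU
  obtain ⟨ψ, hψ⟩ := Spec.map_surjective (IsOpenImmersion.lift U.2.fromSpec x hr)
  have hfac : Spec.map ψ ≫ U.2.fromSpec = x := by rw [hψ, IsOpenImmersion.lift_fac]
  have hc : CommRingCat.ofHom (constHom (k := k) U.1) ≫ ψ = 𝟙 _ := by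
    apply Spec.map_injective
    rw [Spec.map_comp, ← fromSpec_over U.2, ← Category.assoc, hfac, hx, Spec.map_id]
  refine ⟨{ ψ.hom with commutes' := fun c => ?_ }, ?_⟩
  · exact congrArg (fun f => f.hom c) hc
  · exact hfac

theorem germ_mem_sq_iff' (U : Y.affineOpens) (φ : Γ(Y, U.1) →ₐ[k] k) (y : Y)
    (hy : y = U.2.fromSpec ⟨pk φ, (pk_isMaximal φ).isPrime⟩) (hmem : y ∈ U.1) (h : Γ(Y, U.1)) :
    (Y.presheaf.germ U.1 y hmem).hom h ∈ IsLocalRing.maximalIdeal (Y.presheaf.stalk y) ^ 2 ↔ h ∈ pk φ ^ 2 := by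
  subst hy
  haveI : (pk φ).IsMaximal := pk_isMaximal φ
  let z : PrimeSpectrum Γ(Y, U.1) := ⟨pk φ, (pk_isMaximal φ).isPrime⟩
  let S := Y.presheaf.stalk (U.2.fromSpec z)
  letI : Algebra Γ(Y, U.1) S := TopCat.Presheaf.algebra_section_stalk Y.presheaf ⟨_, hmem⟩
  haveI : IsLocalization.AtPrime S (pk φ) := U.2.isLocalization_stalk' z hmem
  show algebraMap Γ(Y, U.1) S h ∈ IsLocalRing.maximalIdeal S ^ 2 ↔ _
  rw [← Ideal.Quotient.eq_zero_iff_mem, ← Ideal.Quotient.eq_zero_iff_mem,
    ← map_eq_zero_iff (IsLocalization.AtPrime.equivQuotMaximalIdealPow (pk φ) S 2)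
      (IsLocalization.AtPrime.equivQuotMaximalIdealPow (pk φ) S 2).injective,
    IsLocalization.AtPrime.equivQuotMaximalIdealPow_apply_mk]

/-- The germ at a point lies in the square of the maximal ideal iff the function lies in the square of the prime. -/
theorem germ_mem_sq_iff (U : Y.affineOpens) (φ : Γ(Y, U.1) →ₐ[k] k) (a : Spec (CommRingCat.of k))
    (h : Γ(Y, U.1)) :
    (Y.presheaf.germ U.1 (ptOf U φ a) (ptOf_mem U φ a)).hom h ∈
        IsLocalRing.maximalIdeal (Y.presheaf.stalk (ptOf U φ a)) ^ 2 ↔ h ∈ pk φ ^ 2 := by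
  exact germ_mem_sq_iff' U φ _ (ptOf_apply U φ a) (ptOf_mem U φ a) h

end General

variable {k : Type u} [Field k] [IsAlgClosed k] {r : ℕ} {X : Scheme.{u}} (i : X ⟶ CohB1.ProjSpace r k)
  [IsClosedImmersion i] [X.Over (Spec (CommRingCat.of k))]
  (hi : i ≫ CohB1.ProjSpace.toSpec r k = X ↘ Spec (CommRingCat.of k))

/-- The form as a function on a chart. -/
abbrev ev (j : Fin (r + 1)) {d : ℕ} (H : LefPen.Form r k d) : Γ(X, (chartX i j).1) :=
  MvPolynomial.aeval (coord i j) H.1

/-- Some chart sees a singular point of the section at `x`. -/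
def BadAt (j : Fin (r + 1)) (x : X) {d : ℕ} (H : LefPen.Form r k d) : Prop :=
  ∃ hx : x ∈ (chartX i j).1,
    (X.presheaf.germ (chartX i j).1 x hx).hom (ev i j H) ∈ IsLocalRing.maximalIdeal (X.presheaf.stalk x) ^ 2

theorem badAt_ptOf_iff (j : Fin (r + 1)) (φ : Γ(X, (chartX i j).1) →ₐ[k] k) (a : Spec (CommRingCat.of k))
    {d : ℕ} (H : LefPen.Form r k d) :
    BadAt i j (ptOf (chartX i j) φ a) H ↔ ev i j H ∈ pk φ ^ 2 :=
  ⟨fun ⟨_, h⟩ => (germ_mem_sq_iff (chartX i j) φ a _).mp h,
    fun h => ⟨ptOf_mem _ φ a, (germ_mem_sq_iff (chartX i j) φ a _).mpr h⟩⟩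

include hi in
theorem badAt_congr (j j' : Fin (r + 1)) (x : X) {d : ℕ} (H : LefPen.Form r k d)
    (hx' : x ∈ (chartX i j').1) (h : BadAt i j x H) : BadAt i j' x H := by
  obtain ⟨hx, h⟩ := h
  obtain ⟨V, hxV, hV⟩ := GrothLib.BlowUp.exists_affine_mem_le (W := (chartX i j).1 ⊓ (chartX i j').1) (x := x) ⟨hx, hx'⟩
  have h1 : V.1 ≤ (chartX i j).1 := hV.trans inf_le_left
  have h2 : V.1 ≤ (chartX i j').1 := hV.trans inf_le_right
  let I := LefPen.secIdeal i ({H} : Set (LefPen.Form r k d))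
  have e1 := I.map_ideal (U := V) (V := chartX i j) h1
  have e2 := I.map_ideal (U := V) (V := chartX i j') h2
  rw [FormBertini12.secIdeal_chart i hi H, Ideal.map_span, Set.image_singleton] at e1 e2
  have hmem : (X.presheaf.map (homOfLE h2).op).hom (ev i j' H) ∈
      Ideal.span {(X.presheaf.map (homOfLE h1).op).hom (ev i j H)} := by
    have := e2.le (Ideal.mem_span_singleton_self _)
    exact e1.ge this
  obtain ⟨a, ha⟩ := Ideal.mem_span_singleton'.mp hmem
  refine ⟨hx', ?_⟩
  have := congrArg (X.presheaf.germ V.1 x hxV).hom ha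
  rw [map_mul, TopCat.Presheaf.germ_res_apply, TopCat.Presheaf.germ_res_apply] at this
  rw [← this]
  exact Ideal.mul_mem_left _ _ h

/-- The section by `H` is singular somewhere. -/
def Bad {d : ℕ} (H : LefPen.Form r k d) : Prop :=
  ∃ (j : Fin (r + 1)) (φ : Γ(X, (chartX i j).1) →ₐ[k] k), ev i j H ∈ pk φ ^ 2

variable [IsIntegral X] {n : ℕ} [SmoothOfRelativeDimension n (X ↘ Spec (CommRingCat.of k))]

theorem rank_chart (j : Fin (r + 1)) (p : PrimeSpectrum Γ(X, (chartX i j).1)) :
    Module.rankAtStalk (R := Γ(X, (chartX i j).1)) Ω[Γ(X, (chartX i j).1)⁄k] p = n := by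
  haveI : Smooth (X ↘ Spec (CommRingCat.of k)) := SmoothOfRelativeDimension.smooth n _
  haveI : Algebra.Smooth k Γ(X, (chartX i j).1) := smooth_constHom (chartX i j)
  refine FormBertini12.rankAtStalk_kaehler_of_locally n ?_ p
  have h1 : SmoothOfRelativeDimension n (Spec.map (CommRingCat.ofHom (constHom (k := k) (chartX i j).1))) := by
    rw [← fromSpec_over (chartX i j).2]
    exact IsZariskiLocalAtSource.comp (P := @SmoothOfRelativeDimension n) inferInstance _
  exact (HasRingHomProperty.Spec_iff (P := @SmoothOfRelativeDimension n)).mp h1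

include hi in
theorem not_transversal_of_bad (hn : 1 ≤ n) {d : ℕ} (H : LefPen.Form r k d) (hb : Bad i H) :
    ¬ LefPen.Transversal k n 1 (LefPen.secToSpec i ({H} : Set (LefPen.Form r k d))) := by
  rintro (⟨-, ht⟩ | ⟨ht, -⟩)
  swap
  · omega
  obtain ⟨j, φ, hφ⟩ := hb
  haveI : Nonempty (chartX i j).1 := ⟨⟨_, ptOf_mem (chartX i j) φ (IsLocalRing.closedPoint k)⟩⟩
  haveI : Smooth (X ↘ Spec (CommRingCat.of k)) := SmoothOfRelativeDimension.smooth n _
  haveI hsm : Algebra.Smooth k Γ(X, (chartX i j).1) := smooth_constHom (chartX i j)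
  haveI := pk_isMaximal φ
  let I := LefPen.secIdeal i ({H} : Set (LefPen.Form r k d))
  have hC : SmoothOfRelativeDimension (n - 1) (Spec.map (CommRingCat.ofHom
      (algebraMap k (Γ(X, (chartX i j).1) ⧸ Ideal.span {ev i j H})))) := by
    have := IsZariskiLocalAtSource.comp (P := @SmoothOfRelativeDimension (n - 1)) ht (I.subschemeCover.f (chartX i j))
    change SmoothOfRelativeDimension (n - 1) (_ ≫ _ ≫ _ ≫ _) at this
    rw [hi] at this
    rw [← Category.assoc, Scheme.IdealSheafData.subschemeCover_map_subschemeι,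
      Scheme.IdealSheafData.glueDataObjι_ι, Category.assoc, fromSpec_over (chartX i j).2, ← Spec.map_comp,
      ← CommRingCat.ofHom_comp] at this
    rw [← FormBertini12.secIdeal_chart i hi H j]
    exact this
  by_cases h0 : ev i j H = 0
  · let q := Ideal.Quotient.mk (Ideal.span {ev i j H})
    have hq : Function.Bijective q := ⟨(injective_iff_map_eq_zero q).mpr fun x hx => by
      rw [Ideal.Quotient.eq_zero_iff_mem, h0] at hx
      simpa using hx, Ideal.Quotient.mk_surjective⟩
    haveI : IsIso (CommRingCat.ofHom q) := (ConcreteCategory.isIso_iff_bijective _).mpr hq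
    have h1 : SmoothOfRelativeDimension (n - 1)
        (Spec.map (CommRingCat.ofHom (constHom (k := k) (chartX i j).1))) := by
      have := IsZariskiLocalAtSource.comp (P := @SmoothOfRelativeDimension (n - 1)) hC
        (inv (Spec.map (CommRingCat.ofHom q)))
      convert this using 1
      rw [IsIso.eq_inv_comp, ← Spec.map_comp]
      rfl
    have hl := (HasRingHomProperty.Spec_iff (P := @SmoothOfRelativeDimension (n - 1))).mp h1
    let p : PrimeSpectrum Γ(X, (chartX i j).1) := ⟨pk φ, (pk_isMaximal φ).isPrime⟩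
    have := FormBertini12.rankAtStalk_kaehler_of_locally (n - 1) hl p
    rw [rank_chart i (n := n) j p] at this
    omega
  · refine not_formallySmooth (k := k) (ev i j H) h0 (pk φ) hφ ?_
    haveI := @SmoothOfRelativeDimension.smooth (n - 1) _ _ _ hC
    have := (HasRingHomProperty.Spec_iff (P := @Smooth)).mp this
    exact (RingHom.smooth_algebraMap.mp this).1

include hi in
theorem transversal_of_not_bad (hn : 1 ≤ n) {d : ℕ} (H : LefPen.Form r k d) (hb : ¬ Bad i H) :
    LefPen.Transversal k n 1 (LefPen.secToSpec i ({H} : Set (LefPen.Form r k d))) := by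
  classical
  refine Or.inl ⟨hn, ?_⟩
  let J' := {j : Fin (r + 1) // Nonempty (chartX i j).1}
  show SmoothOfRelativeDimension (n - 1) (_ ≫ _ ≫ _)
  rw [hi]
  let I := LefPen.secIdeal i ({H} : Set (LefPen.Form r k d))
  let 𝒰 : I.subscheme.OpenCover :=
    Scheme.Cover.mkOfCovers J' (fun j => Spec (CommRingCat.of (Γ(X, (chartX i j.1).1) ⧸ I.ideal (chartX i j.1))))
      (fun j => I.subschemeCover.f (chartX i j.1))
      (fun x => by
        have h := (GrothLib.Ample.ProjMap.iSup_basicOpen_X r k).ge (Opens.mem_top (i (I.subschemeι x)))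
        obtain ⟨j, hj⟩ := Opens.mem_iSup.mp h
        have : x ∈ (I.subschemeCover.f (chartX i j)).opensRange := by
          rw [I.opensRange_subschemeCover_map (chartX i j)]; exact hj
        obtain ⟨y, hy⟩ := this
        exact ⟨⟨j, ⟨⟨I.subschemeι x, hj⟩⟩⟩, y, hy⟩)
      (fun j => inferInstanceAs (IsOpenImmersion (I.subschemeCover.f (chartX i j.1))))
  rw [IsZariskiLocalAtSource.iff_of_openCover (P := @SmoothOfRelativeDimension (n - 1)) 𝒰]
  rintro ⟨j, hj⟩
  haveI := hj
  haveI : Smooth (X ↘ Spec (CommRingCat.of k)) := SmoothOfRelativeDimension.smooth n _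
  haveI : Algebra.Smooth k Γ(X, (chartX i j).1) := smooth_constHom (chartX i j)
  have hsq : ∀ p : Ideal Γ(X, (chartX i j).1), p.IsMaximal → ev i j H ∉ p ^ 2 := fun p hp hmem => by
    haveI := finiteType_chart i hi j
    obtain ⟨φ, hφ⟩ := exists_point (k := k) p
    exact hb ⟨j, φ, by rwa [show pk φ = p from hφ]⟩
  have hne : ev i j H ≠ 0 := fun h => by
    obtain ⟨p, hp⟩ := Ideal.exists_maximal Γ(X, (chartX i j).1)
    exact hsq p hp (h ▸ zero_mem _)
  have := FormBertini12.smoothOfRelativeDimension_quotient n (rank_chart i j) (ev i j H) hne hsq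
  rw [← FormBertini12.secIdeal_chart i hi H j] at this
  show SmoothOfRelativeDimension (n - 1)
    (I.subschemeCover.f (chartX i j) ≫ I.subschemeι ≫ (X ↘ Spec (CommRingCat.of k)))
  rw [← Category.assoc, Scheme.IdealSheafData.subschemeCover_map_subschemeι,
    Scheme.IdealSheafData.glueDataObjι_ι, Category.assoc, fromSpec_over (chartX i j).2, ← Spec.map_comp,
    ← CommRingCat.ofHom_comp]
  exact this

end GrothLib.DualVar12
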